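import Mathlib
import Cfsg.Agent.H301.SY.Spor
import Cfsg.Agent.H724.UThree
import Cfsg.Agent.H947.SqLin3_m3
import Cfsg.Agent.H394.SqPsu3
import Cfsg.Agent.Lib.PGroupFixedVector
import Cfsg.Agent.FastGrp
import Cfsg.Agent.Prune
set_option linter.all false

section
prune_inst 0x7f00000000000000000000000000000000000000000000000000000000000000000000000000000000000000000000000000000000000000000000000000000000000000000000000000000000000000003fffffffffffffffffffffffffffbeffbdffffffff

-- part: H301/SY/Rep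
section
set_option linter.all false
open scoped Cfsg.Agent.FastGrp

/-!
# S3846: `M0` from a representation of small degree (helper301)

`m0_of_rep` : `f : E → K` onto with central kernel, `ρ` a faithful representation of `E` of degree `d`, `d + 1 < p`, over a
field of characteristic `r ≠ p`, the Sylow `p`-subgroups of `K` cyclic, `x` of order `p` normalising no non-trivial
`r`-subgroup. Then `M0 x`.
-/

set_option autoImplicit false
set_option linter.unusedSectionVars false

namespace Cfsg.Agent.H301.SY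

open Cfsg Subgroup Cfsg.Agent.H459.Rad Cfsg.Agent.H459.Iface Cfsg.Agent.SignalizersComponents.ComponentExists

/-- the power of `e` which is the `q`-part: `m ≡ 1 (mod q ^ n)` and `orderOf (e ^ m)` a power of `q` -/
theorem exists_part {E : Type*} [Group E] [Finite E] {q : ℕ} (hq : q.Prime) (e : E) (n : ℕ) :
    ∃ m : ℕ, m ≡ 1 [MOD q ^ n] ∧ ∃ k : ℕ, orderOf (e ^ m) = q ^ k := by
  obtain ⟨k, b, hb, hk⟩ := Nat.exists_eq_pow_mul_and_not_dvd (n := orderOf e) (orderOf_pos e).ne' q hq.ne_one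
  have hcop : Nat.Coprime (q ^ n) b := Nat.Coprime.pow_left n ((Nat.Prime.coprime_iff_not_dvd hq).2 hb)
  obtain ⟨m, hm1, hm2⟩ := Nat.chineseRemainder hcop 1 0
  refine ⟨m, hm1, ?_⟩
  have hbm : b ∣ m := (Nat.modEq_zero_iff_dvd).1 hm2
  have h1 : (e ^ m) ^ (q ^ k) = 1 := by
    rw [← pow_mul]
    apply orderOf_dvd_iff_pow_eq_one.1
    rw [hk, mul_comm m]
    exact mul_dvd_mul_left _ hbm
  obtain ⟨j, -, hj⟩ := (Nat.dvd_prime_pow hq).1 (orderOf_dvd_of_pow_eq_one h1)
  exact ⟨j, hj⟩

theorem m0_of_rep (hh : HH) {K : Type*} [Group K] [Finite K] {p : ℕ} [hp : Fact p.Prime]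
    {E : Type} [Group E] [Finite E] (f : E →* K) (hf : Function.Surjective f) (hker : f.ker ≤ center E)
    {k : Type} [Field k] {r : ℕ} [CharP k r] [hr : Fact r.Prime] {V : Type} [AddCommGroup V] [Module k V]
    [FiniteDimensional k V] (ρ : Representation k E V) (hρ : Function.Injective ρ) (hpr : p ≠ r)
    (hd : Module.finrank k V + 1 < p) (hcyc : ∀ P : Sylow p K, IsCyclic (P : Subgroup K)) {x : K}
    (hx : orderOf x = p) (hF : ¬ FixR r (MulAut.conj x)) : M0 x := by
  refine M0.of_triv hcyc hx fun t ht htp R hR hxR => ?_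
  have htF : Fact t.Prime := ⟨ht⟩
  by_cases htr : t = r
  · have h0 : R = ⊥ := by
      by_contra h0
      exact hF ⟨R, h0, htr ▸ hR, fun a ha => hxR a ha⟩
    intro a ha
    rw [h0, mem_bot] at ha
    rw [ha, mul_one, one_mul]
  -- a `p`-element over `x`
  obtain ⟨e, he⟩ := hf x
  obtain ⟨m, hm, n, hn⟩ := exists_part hp.out e 1
  set y : E := e ^ m with hy
  have hfy : f y = x := by
    rw [hy, map_pow, he]
    have h1 : m ≡ 1 [MOD orderOf x] := by rw [hx]; simpa using hm
    have h2 := pow_eq_pow_iff_modEq.2 h1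
    rw [h2, pow_one]
  -- the preimage of `R`
  set B : Subgroup E := R.comap f with hB
  have hRn : Group.IsNilpotent R := hR.isNilpotent
  have hBn : Group.IsNilpotent B := by
    refine Subgroup.isNilpotent_of_ker_le_center (f.subgroupComap R) ?_
    intro b hb
    have h1 : (b : E) ∈ f.ker := by
      rw [MonoidHom.mem_ker]
      exact congrArg Subtype.val (MonoidHom.mem_ker.1 hb)
    rw [mem_center_iff]
    intro g
    exact Subtype.ext (mem_center_iff.1 (hker h1) g)
  have hyB : ∀ b ∈ B, y * b * y⁻¹ ∈ B := by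
    intro b hb
    rw [hB, mem_comap] at hb ⊢
    rw [map_mul, map_mul, map_inv, hfy]
    exact hxR _ hb
  obtain ⟨S⟩ : Nonempty (Sylow t B) := inferInstance
  have hSn : (S : Subgroup B).Normal := by
    have h1 := (Group.isNilpotent_of_finite_tfae (G := B)).out 0 3
    exact (h1.1 hBn) t ⟨ht⟩ S
  have hmemS : ∀ b : B, (∃ k : ℕ, orderOf b = t ^ k) → b ∈ (S : Subgroup B) := by
    rintro b ⟨k, hk⟩
    have h1 : IsPGroup t (zpowers b) := IsPGroup.of_card (n := k) (by rw [Nat.card_zpowers, hk])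
    obtain ⟨Q, hQ⟩ := h1.exists_le_sylow
    have h2 : Q = S := by
      have h3 := Sylow.unique_of_normal S hSn
      exact Subsingleton.elim _ _
    rw [← h2]
    exact hQ (mem_zpowers b)
  set R' : Subgroup E := (S : Subgroup B).map B.subtype with hR'
  have hR't : IsPGroup t R' := S.isPGroup'.map _
  have hR'y : ∀ a ∈ R', y * a * y⁻¹ ∈ R' := by
    rintro _ ⟨b, hb, rfl⟩
    refine ⟨⟨y * b * y⁻¹, hyB b b.2⟩, hmemS _ ?_, rfl⟩
    obtain ⟨j, hj⟩ := (IsPGroup.iff_orderOf.1 S.isPGroup') ⟨b, hb⟩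
    rw [Subgroup.orderOf_mk] at hj
    refine ⟨j, ?_⟩
    rw [Subgroup.orderOf_mk, ← hj, ← Subgroup.orderOf_coe b]
    exact orderOf_injective (MulAut.conj y).toMonoidHom (MulAut.conj y).injective (b : E)
  have hpk : (p : k) ≠ 0 := by
    rw [Ne, CharP.cast_eq_zero_iff k r]
    intro h1
    exact hpr ((Nat.prime_dvd_prime_iff_eq hr.out hp.out).1 h1).symm
  have htk : (t : k) ≠ 0 := by
    rw [Ne, CharP.cast_eq_zero_iff k r]
    intro h1
    exact htr ((Nat.prime_dvd_prime_iff_eq hr.out ht).1 h1).symm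
  have key := hh k V E ρ hρ p t hp.out ht (Ne.symm htp) hpk htk hd R' hR't y ⟨n, hn⟩ hR'y
  intro a ha
  obtain ⟨j, hj⟩ := (IsPGroup.iff_orderOf.1 hR) ⟨a, ha⟩
  rw [Subgroup.orderOf_mk] at hj
  obtain ⟨b, hb⟩ := hf a
  obtain ⟨m', hm', l, hl⟩ := exists_part ht b j
  have hfb : f (b ^ m') = a := by
    rw [map_pow, hb]
    have h2 := pow_eq_pow_iff_modEq.2 (show m' ≡ 1 [MOD orderOf a] by rw [hj]; exact hm')
    rw [h2, pow_one]
  have hbB : b ^ m' ∈ B := by rw [hB, mem_comap, hfb]; exact ha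
  have hbR : b ^ m' ∈ R' := ⟨⟨b ^ m', hbB⟩, hmemS _ ⟨l, by rw [Subgroup.orderOf_mk]; exact hl⟩, rfl⟩
  have h1 := congrArg f (key _ hbR)
  rwa [map_mul, map_mul, hfy, hfb] at h1

end Cfsg.Agent.H301.SY
end

-- part: H947/Sy/Psu3
section
set_option linter.all false
open scoped Cfsg.Agent.FastGrp

/-!
# The row `PSU₃(q)` of S3846 (helper947, task 1559): `noya_psu3`
-/

set_option autoImplicit false
set_option linter.unusedSectionVars false

namespace Cfsg.Agent.H947.Sy

open Subgroup Cfsg Cfsg.Agent.H459.Rad Cfsg.Agent.H459.Iface Matrix Cfsg.Agent.H301.SY Cfsg.Agent.H724.UThree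
open Cfsg.Agent.ClassicalGeometry.PSUAutCount (gm toAut gm_mul gm_one gm_inj)
open Cfsg.Agent.ClassicalGeometry.UnitAutBasic (pr pr_surjective)
open Cfsg.Agent.Schreier.PSU (f₁)
open Cfsg.Agent.LieClassical.HermSiegel (mat)

section U

variable {F : Type*} [Field F] [Fintype F] {q : ℕ}

/-- only `RC` is used in `endAt_psu` -/
theorem exists_inner (hF : Fintype.card F = q ^ 2) (hq : q ≠ 2) {p : ℕ} [hp : Fact p.Prime] (hp5 : 5 ≤ p)
    {x : MulAut (PSU 3 F q)} (hx : orderOf x = p) (hR : RC x) :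
    ∃ g : SU 3 F q, g ^ p = 1 ∧ x = MulAut.conj (pr 3 F q g) ∧ p ∣ q ^ 2 - q + 1 := by
  have hq2 := LieClassical.GUOrder.two_le hF
  have hxp : x ^ p = 1 := by rw [← hx]; exact pow_orderOf_eq_one x
  have hx1 : x ≠ 1 := by
    rintro rfl
    rw [orderOf_one] at hx
    omega
  obtain ⟨A, ρ, rfl⟩ := ClassicalGeometry.PSUAutMain.exists_toAut hF le_rfl (fun h => hq h.2) x
  by_cases hρ : ρ = 1
  swap
  · exact (Cfsg.Agent.H724.UThree.field_false hF hp.out (by omega) hxp hρ hR).elim
  subst hρ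
  obtain ⟨g, hg, hgx⟩ := exists_lin hF hp.out (by omega) hxp
  rw [hgx] at hx1 hR
  by_cases hpq : p ∣ q
  · -- the characteristic
    exfalso
    obtain ⟨r, k, hr, hrc, hk, hk0⟩ := LieClassical.HermBasic.exists_prime_pow hF
    have h1 : p = r := by
      rw [hk] at hpq
      exact (Nat.prime_dvd_prime_iff_eq hp.out hr).1 (hp.out.dvd_of_dvd_pow hpq)
    subst h1
    exact hx1 (unip_eq_one hF hp5 hg hR)
  by_cases hd : p ∣ q ^ 2 - q + 1
  · exact ⟨g, hg, by rw [hgx, f₁_toGU], hd⟩
  · exfalso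
    have hnd : ¬ p ∣ q ^ 2 * (q ^ 2 - q + 1) := by
      intro h
      rcases (Nat.Prime.dvd_mul hp.out).1 h with h | h
      · exact hpq (hp.out.dvd_of_dvd_pow h)
      · exact hd h
    have hg1 : g ≠ 1 := by
      rintro rfl
      apply hx1
      have : toGU (1 : SU 3 F q) = 1 := gm_inj rfl
      rw [this, map_one]
    have hog : orderOf g = p := orderOf_eq_prime hg hg1
    have hdvd : p ∣ Nat.card (SU 3 F q) := by rw [← hog]; exact _root_.orderOf_dvd_natCard g
    have hq4 : 4 ≤ q := by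
      have h1 : p ∣ Nat.card (GU 3 F q) := by
        rw [LieClassical.GUOrder.card_GU_eq hF (by norm_num)]
        exact Dvd.dvd.mul_left hdvd _
      rw [card_GU_three hF] at h1
      have h3 : q ^ 3 + 1 = (q + 1) * (q ^ 2 - q + 1) := by
        have h4 : q ≤ q ^ 2 := Nat.le_self_pow (by norm_num) q
        zify [h4]
        ring
      have h5 : q ^ 2 - 1 = (q + 1) * (q - 1) := by
        have := Nat.sq_sub_sq q 1
        simpa only [_root_.one_pow] using this
      rw [h3, h5] at h1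
      by_contra hlt
      have hlt' : q = 3 := by omega
      subst hlt'
      rcases (Nat.Prime.dvd_mul hp.out).1 h1 with h | h
      · exact hpq (hp.out.dvd_of_dvd_pow h)
      · have h8 : p ∣ 2 ^ 7 * 7 := by
          have : (3 + 1) * ((3 + 1) * (3 - 1)) * ((3 + 1) * (3 ^ 2 - 3 + 1)) = 2 ^ 7 * 7 := by norm_num
          rwa [this] at h
        rcases (Nat.Prime.dvd_mul hp.out).1 h8 with h | h
        · have := Nat.le_of_dvd (by norm_num) (hp.out.dvd_of_dvd_pow h)
          omega
        · exact hd (by norm_num; exact h)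
    exact hx1 (semi_eq_one hF hq4 hnd (by rw [← toGU_pow, hg]; exact gm_inj rfl) hR)

theorem hord_three (hF : Fintype.card F = q ^ 2) {p : ℕ} [hp : Fact p.Prime] (hp5 : 5 ≤ p)
    (hd : p ∣ q ^ 2 - q + 1) : orderOf ((Nat.card F : ℕ) : ZMod p) = 3 := by
  have hq2 : q ≤ q ^ 2 := Nat.le_self_pow (by norm_num) q
  have h0 : (q : ZMod p) ^ 2 - q + 1 = 0 := by
    have := (ZMod.natCast_eq_zero_iff _ p).2 hd
    push_cast [Nat.cast_sub hq2] at this
    exact this
  have h1 : (q : ZMod p) ^ 3 = -1 := by linear_combination ((q : ZMod p) + 1) * h0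
  have h3 : (q : ZMod p) ^ 2 ≠ 1 := by
    intro h
    have h4 : (q : ZMod p) = 2 := by linear_combination h - h0
    rw [h4] at h
    have h5 : ((3 : ℕ) : ZMod p) = 0 := by push_cast; linear_combination h
    have h6 := (ZMod.natCast_eq_zero_iff _ p).1 h5
    have := Nat.le_of_dvd (by norm_num) h6
    omega
  rw [Nat.card_eq_fintype_card, hF]
  push_cast
  exact ord_three h1 h3

/-- the natural representation -/
def rho : Representation F (SU 3 F q) (Fin 3 → F) where
  toFun g := Matrix.toLin' (mat g)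
  map_one' := by
    have : mat (1 : SU 3 F q) = 1 := rfl
    rw [this, Matrix.toLin'_one]
    rfl
  map_mul' g h := by
    have : mat (g * h) = mat g * mat h := rfl
    rw [this, Matrix.toLin'_mul]
    rfl

theorem rho_apply (g : SU 3 F q) (v : Fin 3 → F) : rho g v = (mat g).mulVec v := Matrix.toLin'_apply _ _

theorem rho_injective : Function.Injective (rho : Representation F (SU 3 F q) (Fin 3 → F)) := by
  intro g h hgh
  exact mat_ext (Matrix.toLin'.injective hgh)

/-- `x` normalises no `r`-subgroup -/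
theorem not_fixR {p : ℕ} [hp : Fact p.Prime]
    (hord : orderOf ((Nat.card F : ℕ) : ZMod p) = 3) {r : ℕ} [hr : Fact r.Prime] [CharP F r] {g : SU 3 F q}
    (hg : g ^ p = 1) (hg1 : g ≠ 1) : ¬ FixR r (MulAut.conj (pr 3 F q g)) := by
  rintro ⟨R, hR1, hRr, hRx⟩
  set! R1 : Subgroup (SU 3 F q) := R.comap (pr 3 F q) with hR1d
  have hinv : ∀ s ∈ R1, g * s * g⁻¹ ∈ R1 := by
    intro s hs
    show pr 3 F q (g * s * g⁻¹) ∈ R
    have := hRx _ hs
    rwa [MulAut.conj_apply, ← map_inv, ← map_mul, ← map_mul] at this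
  -- `R1` is nilpotent
  have hnil : Group.IsNilpotent R1 := by
    have h1 : Group.IsNilpotent R := hRr.isNilpotent
    let f : R1 →* R := ((pr 3 F q).comp R1.subtype).codRestrict R (fun s => s.2)
    refine Subgroup.isNilpotent_of_ker_le_center f ?_
    intro s hs
    have h2 : pr 3 F q (s : SU 3 F q) = 1 := congrArg Subtype.val (MonoidHom.mem_ker.1 hs)
    have h3 : (s : SU 3 F q) ∈ center (SU 3 F q) := (QuotientGroup.eq_one_iff _).1 h2
    rw [mem_center_iff]
    intro t
    exact Subtype.ext ((mem_center_iff.1 h3) (t : SU 3 F q))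
  obtain ⟨S⟩ : Nonempty (Sylow r R1) := inferInstance
  have hSn : ((S : Subgroup R1).Normal :) := by
    have := (Group.isNilpotent_of_finite_tfae (G := R1)).out 0 3
    exact (this.1 hnil) r hr S
  have hall : ∀ s : R1, (∃ k : ℕ, s ^ r ^ k = 1) → s ∈ (S : Subgroup R1) := by
    rintro s ⟨k, hk⟩
    have h2 : IsPGroup r (zpowers s) := by
      obtain ⟨j, -, hj⟩ := (Nat.dvd_prime_pow hr.out).1 (orderOf_dvd_of_pow_eq_one hk)
      exact IsPGroup.of_card (n := j) (by rw [Nat.card_zpowers, hj])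
    obtain ⟨P, hP⟩ := h2.exists_le_sylow
    have h3 : P = S := by
      have := Sylow.unique_of_normal S hSn
      exact Subsingleton.elim P S
    rw [← h3]
    exact hP (mem_zpowers s)
  -- `S ≠ 1`
  have hS1 : ∃ s : R1, s ∈ (S : Subgroup R1) ∧ s ≠ 1 := by
    obtain ⟨a, ha, ha1⟩ : ∃ a ∈ R, a ≠ 1 := by
      by_contra hcon
      push Not at hcon
      exact hR1 ((Subgroup.eq_bot_iff_forall _).2 hcon)
    obtain ⟨s, rfl⟩ := pr_surjective (n := 3) (F := F) (q := q) a
    obtain ⟨k, hk⟩ := hRr ⟨_, ha⟩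
    have hk' : pr 3 F q s ^ r ^ k = 1 := congrArg Subtype.val hk
    have hrdvd : r ∣ Nat.card R1 := by
      have h2 : r ∣ orderOf (pr 3 F q s) := by
        obtain ⟨j, -, hj⟩ := (Nat.dvd_prime_pow hr.out).1 (orderOf_dvd_of_pow_eq_one hk')
        rw [hj]
        refine dvd_pow_self r ?_
        rintro rfl
        rw [pow_zero, orderOf_eq_one_iff] at hj
        exact ha1 hj
      have h3 : orderOf (pr 3 F q s) ∣ orderOf s := orderOf_map_dvd _ s
      have h4 : orderOf s ∣ Nat.card R1 := by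
        have hs : s ∈ R1 := ha
        rw [← Subgroup.orderOf_mk s hs]
        exact _root_.orderOf_dvd_natCard _
      exact h2.trans (h3.trans h4)
    obtain ⟨t, ht⟩ := exists_prime_orderOf_dvd_card' r hrdvd
    refine ⟨t, hall t ⟨1, by rw [pow_one, ← ht]; exact pow_orderOf_eq_one t⟩, ?_⟩
    rintro rfl
    rw [orderOf_one] at ht
    exact hr.out.one_lt.ne ht
  -- the fixed space
  let W : Submodule F (Fin 3 → F) :=
    { carrier := {v | ∀ s : R1, s ∈ (S : Subgroup R1) → (mat (s : SU 3 F q)).mulVec v = v}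
      add_mem' := by
        intro a b ha hb s hs
        rw [Matrix.mulVec_add, ha s hs, hb s hs]
      zero_mem' := by
        intro s _
        rw [Matrix.mulVec_zero]
      smul_mem' := by
        intro c v hv s hs
        rw [Matrix.mulVec_smul, hv s hs] }
  have hWm : ∀ v, v ∈ W ↔ ∀ s : R1, s ∈ (S : Subgroup R1) → (mat (s : SU 3 F q)).mulVec v = v := fun v => Iff.rfl
  have hW0 : W ≠ ⊥ := by
    let ρ' : (Representation F (S : Subgroup R1) (Fin 3 → F) :) :=
      (rho : Representation F (SU 3 F q) (Fin 3 → F)).comp (R1.subtype.comp (S : Subgroup R1).subtype)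
    obtain ⟨v, hv0, hv⟩ := Cfsg.Agent.Lib.PGroupFixedVector.exists_ne_zero_fixed_rep S.isPGroup' ρ'
    intro h
    apply hv0
    have h1 : v ∈ W := by
      intro s hs
      have := hv ⟨s, hs⟩
      have h2 : rho (s : SU 3 F q) v = v := this
      rwa [rho_apply] at h2
    rw [h] at h1
    exact (Submodule.mem_bot F).1 h1
  have hW1 : W ≠ ⊤ := by
    intro h
    obtain ⟨s, hs, hs1⟩ := hS1
    apply hs1
    apply Subtype.ext
    apply mat_ext
    have h2 : mat (s : SU 3 F q) = 1 := by
      apply Matrix.toLin'.injective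
      apply LinearMap.ext
      intro v
      rw [Matrix.toLin'_apply, Matrix.toLin'_one, LinearMap.id_apply]
      have : v ∈ W := by rw [h]; exact Submodule.mem_top
      exact this s hs
    exact h2
  have hWg : ∀ v ∈ W, (mat g).mulVec v ∈ W := by
    intro v hv s hs
    have h1 : g⁻¹ * (s : SU 3 F q) * g ∈ R1 := by
      have hk : ∀ n : ℕ, ∀ s ∈ R1, g ^ n * s * (g ^ n)⁻¹ ∈ R1 := by
        intro n
        induction n with
        | zero => intro s hs; simpa using hs
        | succ n ih =>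
          intro s hs
          have := hinv _ (ih s hs)
          have e : g ^ (n + 1) * s * (g ^ (n + 1))⁻¹ = g * (g ^ n * s * (g ^ n)⁻¹) * g⁻¹ := by
            rw [pow_succ']; group
          rwa [e]
      have h2 := hk (p - 1) s s.2
      have h3 : g ^ (p - 1) = g⁻¹ := by
        rw [eq_inv_iff_mul_eq_one, ← pow_succ, Nat.sub_add_cancel hp.out.one_le, hg]
      rwa [h3, inv_inv] at h2
    have h2 : (⟨g⁻¹ * (s : SU 3 F q) * g, h1⟩ : R1) ∈ (S : Subgroup R1) := by
      apply hall
      obtain ⟨k, hk⟩ := S.isPGroup' ⟨s, hs⟩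
      refine ⟨k, Subtype.ext ?_⟩
      have hk1 : (s : R1) ^ r ^ k = 1 := congrArg Subtype.val hk
      have hk2 : (s : SU 3 F q) ^ r ^ k = 1 := congrArg Subtype.val hk1
      show (g⁻¹ * (s : SU 3 F q) * g) ^ r ^ k = 1
      have e : g⁻¹ * (s : SU 3 F q) * g = g⁻¹ * (s : SU 3 F q) * g⁻¹⁻¹ := by rw [inv_inv]
      rw [e, conj_pow, hk2, mul_one, mul_inv_cancel]
    have h3 := hv _ h2
    have h4 : mat (g⁻¹ * (s : SU 3 F q) * g) = mat g⁻¹ * mat (s : SU 3 F q) * mat g := rfl
    have h5 : mat g * mat g⁻¹ = 1 := by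
      have : mat (g * g⁻¹) = mat g * mat g⁻¹ := rfl
      rw [← this, mul_inv_cancel]; rfl
    have h6 : (mat (g⁻¹ * (s : SU 3 F q) * g)).mulVec v = v := h3
    rw [h4] at h6
    calc (mat (s : SU 3 F q)).mulVec ((mat g).mulVec v)
        = (mat g * (mat g⁻¹ * mat (s : SU 3 F q) * mat g)).mulVec v := by
          rw [Matrix.mulVec_mulVec, ← mul_assoc, ← mul_assoc, h5, one_mul]
      _ = (mat g).mulVec v := by rw [← Matrix.mulVec_mulVec, h6]
  -- the contradiction
  have hX : mat g ^ p = 1 := by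
    have h1 : ∀ n : ℕ, mat (g ^ n) = mat g ^ n := by
      intro n
      induction n with
      | zero => rw [pow_zero, pow_zero]; rfl
      | succ n ih =>
        rw [pow_succ, pow_succ, ← ih]; rfl
    rw [← h1, hg]; rfl
  have hX1 : mat g ≠ 1 := fun h => hg1 (mat_ext h)
  have h2 : orderOf ((Nat.card F : ℕ) : ZMod p) ∣ Module.finrank F W := by
    refine Cfsg.Agent.H150.dvd_finrank_of_fpf_submodule hp.out (Matrix.toLin' (mat g)) ?_ W ?_ ?_
    · rw [← Matrix.toLin'_pow, hX, Matrix.toLin'_one]; rfl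
    · intro w hw
      rw [Matrix.toLin'_apply]
      exact hWg w hw
    · intro v _ hv
      rw [Matrix.toLin'_apply] at hv
      exact Cfsg.Agent.H947.Sq.fpf_mat hord hX hX1 v hv
  rw [hord] at h2
  have h3 : Module.finrank F W ≠ 0 := by
    rw [Ne, Submodule.finrank_eq_zero]; exact hW0
  have h4 : Module.finrank F W < 3 := by
    have := Submodule.finrank_lt hW1
    rwa [Module.finrank_fin_fun] at this
  omega

end U

theorem not_dvd_five {q : ℕ} (h : 5 ∣ q ^ 2 - q + 1) : False := by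
  have hq2 : q ≤ q ^ 2 := Nat.le_self_pow (by norm_num) q
  have h0 : ((q ^ 2 - q + 1 : ℕ) : ZMod 5) = 0 := (ZMod.natCast_eq_zero_iff _ 5).2 h
  push_cast [Nat.cast_sub hq2] at h0
  revert h0
  generalize (q : ZMod 5) = a
  revert a
  decide

theorem noya_psu {F : Type} [Field F] [Fintype F] {q : ℕ} [IsSimpleGroup (PSU 3 F q)] (hF : Fintype.card F = q ^ 2)
    (hq : q ≠ 2) (hna : ¬ IsMulCommutative (PSU 3 F q)) (hh : HH) {p : ℕ} [hp : Fact p.Prime] (hp5 : 5 ≤ p) :
    NoYA p (PSU 3 F q) := by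
  intro x hx hR hY
  obtain ⟨g, hg, rfl, hd⟩ := exists_inner hF hq hp5 hx hR
  have hZ : center (PSU 3 F q) = ⊥ := center_eq_bot hna
  have hos : orderOf (pr 3 F q g) = p := by
    rw [← hx]
    exact (orderOf_injective (MulAut.conj : PSU 3 F q →* MulAut (PSU 3 F q)) (_root_.Cfsg.Agent.H301.SY.conj_injective hZ) _).symm
  have hg1 : g ≠ 1 := by
    rintro rfl
    rw [map_one, orderOf_one] at hos
    omega
  have hcyc : ∀ P : Sylow p (PSU 3 F q), (IsCyclic (P : Subgroup (PSU 3 F q)) :) := cyc_sylow hF hp5 hd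
  have hord := hord_three hF hp5 hd
  obtain ⟨r, hr⟩ := CharP.exists F
  have hrF : Fact r.Prime := ⟨CharP.char_is_prime F r⟩
  have hpr : p ≠ r := by
    rintro rfl
    have h1 : ((Nat.card F : ℕ) : ZMod p) = 0 := by
      rw [ZMod.natCast_eq_zero_iff]
      obtain ⟨n, hn, hn'⟩ := FiniteField.card F p
      rw [Nat.card_eq_fintype_card, hn']
      exact dvd_pow_self p n.2.ne'
    rw [h1] at hord
    have h2 := pow_orderOf_eq_one (0 : ZMod p)
    rw [hord] at h2
    simp at h2
  have hp7 : 5 < p := by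
    rcases Nat.lt_or_ge 5 p with h | h
    · exact h
    · exfalso
      have : p = 5 := by omega
      subst this
      exact not_dvd_five hd
  refine M0.false hna (fun P a ha b hb => ?_) hos (YE.of_ya hZ hY)
    (m0_of_rep hh (pr 3 F q) pr_surjective ?_ (rho : Representation F (SU 3 F q) (Fin 3 → F)) rho_injective hpr
      (by rw [Module.finrank_fin_fun]; omega) hcyc hos (not_fixR hord hg hg1))
  · have := (hcyc P).isMulCommutative
    exact congrArg Subtype.val ((this.is_comm.comm (⟨a, ha⟩ : (P : Subgroup (PSU 3 F q))) ⟨b, hb⟩ :))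
  · intro z hz
    exact (QuotientGroup.eq_one_iff _).1 (MonoidHom.mem_ker.1 hz)

/-- **Row `PSU_3(q)` of S3846.** -/
theorem noya_psu3 (hh : Cfsg.Agent.H301.SY.HH) {K : Type*} [Group K] [Finite K] [IsSimpleGroup K] {F : Type} [Field F]
    [Fintype F] {q p : ℕ} [Fact p.Prime] (hF : Fintype.card F = q ^ 2) (e : Nonempty (K ≃* Cfsg.PSU 3 F q))
    (hp : 5 ≤ p) : Cfsg.Agent.H301.SY.NoYA p K := by
  obtain ⟨e⟩ := e
  have hps : IsSimpleGroup (PSU 3 F q) := e.symm.isSimpleGroup
  have hq : q ≠ 2 := by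
    rintro rfl
    obtain ⟨h1, h2⟩ := Cfsg.Agent.S0282.result (F := F) (by rw [hF]; norm_num)
    have h3 : Nat.card K = 72 := by rw [Nat.card_congr e.toEquiv, h1]
    have h4 : Group.IsSolvable K := Group.isSolvable_of_surjective (f := e.symm.toMonoidHom) e.symm.surjective
    have h5 : (Nat.card K).Prime := by
      have h6 : ∀ a b : K, a * b = b * a := IsSimpleGroup.comm_iff_isSolvable.2 h4
      let _ : CommGroup K := { (inferInstance : Group K) with mul_comm := h6 }
      exact IsSimpleGroup.prime_card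
    rw [h3] at h5
    norm_num at h5
  have hna : ¬ IsMulCommutative (PSU 3 F q) := by
    intro hc
    let _ : CommGroup (PSU 3 F q) := { (inferInstance : Group (PSU 3 F q)) with mul_comm := hc.is_comm.comm }
    have h1 : (Nat.card (PSU 3 F q)).Prime := IsSimpleGroup.prime_card
    have h2 := Cfsg.Agent.H394.SqPsu3.card_psu3 hF
    have hq2 := LieClassical.GUOrder.two_le hF
    have h3 : Nat.Coprime (q ^ 3) (Nat.gcd 3 (q + 1)) := by
      apply Nat.Coprime.pow_left
      apply Nat.Coprime.coprime_dvd_right (Nat.gcd_dvd_right _ _)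
      rw [Nat.coprime_self_add_right]
      exact Nat.coprime_one_right q
    have h4 : q ^ 3 ∣ Nat.card (PSU 3 F q) := by
      apply h3.dvd_of_dvd_mul_left
      rw [h2]
      exact dvd_mul_right _ _
    have h5 : q ∣ Nat.card (PSU 3 F q) := (dvd_pow_self q three_ne_zero).trans h4
    rcases (Nat.dvd_prime h1).1 h5 with h6 | h6
    · omega
    · rw [← h6] at h4
      have h7 := Nat.le_of_dvd (by omega) h4
      nlinarith only [hq2, h7, _root_.sq_nonneg (↑q : ℤ), _root_.Nat.cast_nonneg (α := ℤ) (q)]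
  exact NoYA.congr e (noya_psu hF hq hna hh hp)

end Cfsg.Agent.H947.Sy
end
end
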